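import Mathlib.AlgebraicGeometry.Noetherian
import Mathlib.Topology.KrullDimension

/-!
# Nowhere dense closed subsets of a locally Noetherian scheme of dimension at most one

`dim_le_zero`: a scheme embedded in a locally Noetherian scheme of dimension at most one, with
nowhere dense closed image, has dimension at most zero.
-/

set_option autoImplicit false
universe u
open AlgebraicGeometry CategoryTheory TopologicalSpace

namespace Groth.Agent.Etbc.H218.FrontierDim

/-- An irreducible component of a locally Noetherian scheme contains a nonempty open subset. -/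
theorem nonempty_interior (Z : Scheme.{u}) [IsLocallyNoetherian Z] (A : Set Z)
    (hA : A ∈ irreducibleComponents Z) : (interior A).Nonempty := by
  obtain ⟨x, hx⟩ := hA.1.nonempty
  obtain ⟨W, hW, hxW, -⟩ := exists_isAffineOpen_mem_and_subset (X := Z) (U := ⊤) (x := x) trivial
  have hN : NoetherianSpace W := by
    have h1 : IsAffine W := hW
    have h2 : IsLocallyNoetherian W.toScheme := inferInstance
    have h3 : CompactSpace W.toScheme := inferInstance
    have h4 : IsNoetherian W.toScheme := {}
    exact (inferInstance : NoetherianSpace W.toScheme)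
  have h1 : (Subtype.val : W → Z) ⁻¹' A ∈ irreducibleComponents W :=
    preimage_mem_irreducibleComponents hA W.isOpen.isOpenEmbedding_subtypeVal
      ⟨x, hx, ⟨x, hxW⟩, rfl⟩
  obtain ⟨o, ho, hne, hoA⟩ :=
    NoetherianSpace.exists_isOpen_nonempty_subset_irreducibleComponent _ h1
  have h2 : IsOpen ((Subtype.val : W → Z) '' o) := W.isOpen.isOpenEmbedding_subtypeVal.isOpenMap o ho
  refine (hne.image _).mono (interior_maximal ?_ h2)
  rintro _ ⟨w, hw, rfl⟩
  exact hoA hw

/-- A scheme embedded in a locally Noetherian scheme of dimension at most one, with nowhere dense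
closed image, has dimension at most zero. -/
theorem dim_le_zero {Z D : Type u} [TopologicalSpace Z] [TopologicalSpace D]
    (hZ : ∀ A ∈ irreducibleComponents Z, (interior A).Nonempty)
    (hdim : topologicalKrullDim Z ≤ 1) (f : D → Z) (hf : Topology.IsInducing f) (F : Set Z)
    (hF : IsClosed F) (hF' : interior F = ∅) (hfF : ∀ d, f d ∈ F) :
    topologicalKrullDim D ≤ 0 := by
  rw [topologicalKrullDim, Order.krullDim_nonpos_iff_forall_isMax]
  intro A B hAB
  by_contra hBA
  have hlt : A < B := lt_of_le_not_ge hAB hBA
  have h1 := IrreducibleCloseds.map_strictMono_of_isInducing hf hlt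
  rw [topologicalKrullDim, Order.krullDim_le_one_iff] at hdim
  rcases hdim (IrreducibleCloseds.map f hf.continuous B) with h | h
  · exact (lt_irrefl _ (h1.trans_le (h h1.le)))
  · have h2 : (IrreducibleCloseds.map f hf.continuous B : Set Z) ∈ irreducibleComponents Z := by
      refine ⟨IrreducibleCloseds.isIrreducible _, fun s hs hle => ?_⟩
      have h3 : (IrreducibleCloseds.map f hf.continuous B) ≤
          ⟨closure s, hs.closure, isClosed_closure⟩ := fun x hx => subset_closure (hle hx)
      exact fun x hx => h h3 (subset_closure hx)
    obtain ⟨z, hz⟩ := hZ _ h2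
    have h3 : (IrreducibleCloseds.map f hf.continuous B : Set Z) ⊆ F := by
      rw [IrreducibleCloseds.coe_map]
      refine closure_minimal ?_ hF
      rintro _ ⟨d, -, rfl⟩
      exact hfF d
    have h4 := interior_mono h3 hz
    rw [hF'] at h4
    exact h4

end Groth.Agent.Etbc.H218.FrontierDim
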