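import Groth.Agent.Pi1A.FEtAffine
import Mathlib.AlgebraicGeometry.Limits

/-!
# Trivial finite étale covers are pulled back from an affine base
-/

set_option autoImplicit false
set_option backward.isDefEq.respectTransparency false
set_option backward.isDefEq.respectTransparency.types false
universe u
open CategoryTheory CategoryTheory.Limits AlgebraicGeometry
open Groth.Agent.Pi1A.FEtAffine

namespace Groth.Agent.Etbc.H218.TrivialRestrict

/-- Trivial covers are pulled back. -/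
theorem isPullback_trivial {Y S : Scheme.{u}} (g : Y ⟶ S) (ι : Type u) [Finite ι] :
    IsPullback (Sigma.desc (fun _ : ι => 𝟙 Y)) (Sigma.desc (fun i : ι => g ≫ Sigma.ι (fun _ : ι => S) i))
      g (Sigma.desc (fun _ : ι => 𝟙 S)) := by
  have H := IsUniversalColimit.isPullback_of_isColimit_left
    (X := fun _ : ι ↦ S) (a := Cofan.mk _ (Sigma.ι (fun _ : ι => S)))
    (FinitaryPreExtensive.isUniversal_finiteCoproducts (coproductIsCoproduct _))
    (fun _ ↦ 𝟙 S) (Sigma.desc (fun _ : ι => 𝟙 S)) g (fun _ => 𝟙 Y) (fun _ => g)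
    (fun _ ↦ IsPullback.of_horiz_isIso ⟨by simp⟩) (coproductIsCoproduct _)
    (fun i => by simp [Cofan.inj])
  have e1 : Cofan.IsColimit.desc (coproductIsCoproduct fun _ : ι => Y) (fun _ => 𝟙 Y) =
      Sigma.desc (fun _ : ι => 𝟙 Y) := by
    refine Sigma.hom_ext _ _ fun i => ?_
    rw [Sigma.ι_desc]
    exact Cofan.IsColimit.fac (coproductIsCoproduct fun _ : ι => Y) (fun _ => 𝟙 Y) i
  have e2 : Cofan.IsColimit.desc (coproductIsCoproduct fun _ : ι => Y)
      (fun i => g ≫ (Cofan.mk (∐ fun _ : ι => S) (Sigma.ι fun _ : ι => S)).inj i) =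
      Sigma.desc (fun i : ι => g ≫ Sigma.ι (fun _ : ι => S) i) := by
    refine Sigma.hom_ext _ _ fun i => ?_
    rw [Sigma.ι_desc]
    exact Cofan.IsColimit.fac (coproductIsCoproduct fun _ : ι => Y) _ i
  rw [e1, e2] at H
  exact H

/-- Trivial covers are pulled back from affine bases. -/
theorem nonempty_iso_restrict {Y : Scheme.{u}} {A : Type u} [CommRing A]
    (g : Y ⟶ Spec (CommRingCat.of A)) (ι : Type u) [Finite ι] (Z : FEt.Cat Y)
    (e : Z.left ≅ ∐ fun _ : ι => Y)
    (he : ∀ i : ι, Sigma.ι (fun _ : ι => Y) i ≫ e.inv ≫ Z.hom = 𝟙 Y) :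
    Nonempty (Z ≅ (FEt.restrict g).obj (ofAlgebra A (ι → A))) := by
  have hiso : IsIso (sigmaSpec fun _ : ι => CommRingCat.of A) := inferInstance
  let S := Spec (CommRingCat.of A)
  let e' : (∐ fun _ : ι => S) ≅ Spec (CommRingCat.of (ι → A)) :=
    @asIso _ _ _ _ (sigmaSpec fun _ : ι => CommRingCat.of A) hiso
  have h1 : e'.hom ≫ (ofAlgebra A (ι → A)).hom = Sigma.desc (fun _ : ι => 𝟙 S) := by
    rw [ofAlgebra_hom]
    apply Sigma.hom_ext
    intro i
    change Sigma.ι _ i ≫ sigmaSpec (fun _ : ι => CommRingCat.of A) ≫ _ = _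
    rw [ι_sigmaSpec_assoc, ← Spec.map_comp, Sigma.ι_desc, ← Spec.map_id]
    rfl
  have h2 : e.inv ≫ Z.hom = Sigma.desc (fun _ : ι => 𝟙 Y) := by
    apply Sigma.hom_ext
    intro i
    rw [he i, Sigma.ι_desc]
  have H := isPullback_trivial g ι
  have H2 : IsPullback (e.hom ≫ Sigma.desc (fun i : ι => g ≫ Sigma.ι (fun _ : ι => S) i) ≫ e'.hom)
      Z.hom (ofAlgebra A (ι → A)).hom g := by
    refine H.flip.of_iso e.symm (e') (Iso.refl _) (Iso.refl _) ?_ ?_ ?_ ?_
    · simp [S]
    · rw [Iso.refl_hom, Category.comp_id, Iso.symm_hom, h2]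
    · rw [Iso.refl_hom, Category.comp_id, h1]
    · simp
  exact ⟨isoMk (H2.isoPullback) H2.isoPullback_hom_snd⟩

end Groth.Agent.Etbc.H218.TrivialRestrict
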