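import Groth.Agent.Etbc.H218.DiscreteSplit
import Groth.Agent.Etbc.H218.FrontierDim
import Groth.Agent.Etbc.H218.TrivialRestrict
import Groth.Agent.Ega1.ReducedSub
import Groth.Agent.Pi1C.UnionPush
import Groth.Agent.S0238

/-!
# Extending finite étale covers from a connected closed subscheme of a curve
-/

set_option autoImplicit false
universe u
open AlgebraicGeometry CategoryTheory CategoryTheory.Limits TopologicalSpace

namespace Groth.Agent.Etbc.H218.ClosedExtend

open Groth.Agent.Pi1A.FEtAffine

/-- The nilradical thickening is surjective. -/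
theorem surjective_nilradical (X : Scheme.{u}) : Surjective X.nilradical.subschemeι := by
  constructor
  intro x
  have h : x ∈ Set.range X.nilradical.subschemeι := by
    rw [Scheme.IdealSheafData.range_subschemeι, Scheme.support_nilradical]
    trivial
  exact h

/-- On a discrete scheme locally of finite type over a separably closed field, a finite étale cover
of constant rank is pulled back from the base field. -/
theorem exists_iso_restrict {k : Type u} [Field k] [IsSepClosed k] {D : Scheme.{u}}
    [DiscreteTopology D] (a : D ⟶ Spec (CommRingCat.of k)) [LocallyOfFiniteType a]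
    (U : FEt.Cat D) (n : ℕ) (hn : ∀ d, Scheme.Hom.finrank U.hom d = n) :
    Nonempty (U ≅ (FEt.restrict a).obj (ofAlgebra k (ULift.{u} (Fin n) → k))) := by
  let D₀ := D.nilradical.subscheme
  let r : D₀ ⟶ D := D.nilradical.subschemeι
  have hr : Surjective r := surjective_nilradical D
  have hred : IsReduced D₀ := Ega1.ReducedSub.isReduced_subscheme_radical _
  have hdisc : DiscreteTopology D₀ := r.isClosedEmbedding.discreteTopology
  have : (FEt.restrict r).IsEquivalence := Groth.Agent.S0238.result r
  have hf : IsFinite U.hom := U.prop.1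
  have he : Etale U.hom := U.prop.2
  let E := (FEt.restrict r).obj U
  have hf' : IsFinite E.hom := E.prop.1
  have he' : Etale E.hom := E.prop.2
  have hE : ∀ d, Scheme.Hom.finrank E.hom d = n := by
    intro d
    rw [Scheme.Hom.finrank_of_isPullback _ _ _ _ (isPullback r U), hn]
  obtain ⟨e, he⟩ := DiscreteSplit.exists_iso_sigma (r ≫ a) E.hom n hE
  obtain ⟨i⟩ := TrivialRestrict.nonempty_iso_restrict (r ≫ a) (ULift.{u} (Fin n)) E e he
  exact ⟨(Functor.FullyFaithful.ofFullyFaithful (FEt.restrict r)).preimageIso
    (i ≪≫ (restrictComp r a).app _)⟩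

/-- The case of a reduced ambient scheme. -/
theorem essSurj_of_isReduced (k : Type u) [Field k] [IsSepClosed k] (Z X : Scheme.{u})
    [IsReduced Z] (a : Z ⟶ Spec (CommRingCat.of k)) [LocallyOfFiniteType a]
    (hdim : topologicalKrullDim Z ≤ 1) (i : X ⟶ Z) [IsClosedImmersion i] [ConnectedSpace X] :
    (FEt.restrict i).EssSurj := by
  have hN : IsNoetherianRing (CommRingCat.of k) := inferInstanceAs (IsNoetherianRing k)
  have hZN : IsLocallyNoetherian Z := LocallyOfFiniteType.isLocallyNoetherian a
  refine ⟨fun U => ?_⟩
  -- the closure of the complement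
  let C : Closeds Z := ⟨Set.range i, i.isClosedEmbedding.isClosed_range⟩
  let C' : Closeds Z := ⟨closure (Set.range i)ᶜ, isClosed_closure⟩
  let J := Scheme.IdealSheafData.vanishingIdeal C'
  let b : J.subscheme ⟶ Z := J.subschemeι
  have hker : i.ker ⊓ b.ker = ⊥ := by
    have h1 : i.ker ≤ Scheme.IdealSheafData.vanishingIdeal C := by
      rw [← Scheme.IdealSheafData.le_support_iff_le_vanishingIdeal]
      exact Scheme.Hom.range_subset_ker_support i
    have h2 : b.ker = J := Scheme.IdealSheafData.ker_subschemeι J
    rw [h2, eq_bot_iff]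
    refine (inf_le_inf_right _ h1).trans ?_
    have h3 : C ⊔ C' = ⊤ := by
      rw [eq_top_iff]
      intro x _
      by_cases hx : x ∈ Set.range i
      · exact Or.inl hx
      · exact Or.inr (subset_closure hx)
    rw [← Scheme.IdealSheafData.vanishingIdeal_sup, h3,
      Scheme.IdealSheafData.vanishingIdeal_top, Scheme.nilradical_eq_bot]
  let D := pullback i b
  let p : D ⟶ X := pullback.fst i b
  let q : D ⟶ J.subscheme := pullback.snd i b
  have hpq : IsPullback p q i b := IsPullback.of_hasPullback i b
  -- `D` is discrete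
  have hdisc : DiscreteTopology D := by
    have hDN : IsLocallyNoetherian D := LocallyOfFiniteType.isLocallyNoetherian (p ≫ i ≫ a)
    have hD : topologicalKrullDim D ≤ 0 := by
      refine FrontierDim.dim_le_zero (fun A hA => FrontierDim.nonempty_interior Z A hA) hdim
        (p ≫ i) (p ≫ i).isClosedEmbedding.isInducing (frontier (Set.range i)) isClosed_frontier
        (interior_frontier C.isClosed) (fun d => ?_)
      rw [frontier_eq_closure_inter_closure]
      refine ⟨subset_closure ⟨p d, ?_⟩, ?_⟩
      · rw [← Scheme.Hom.comp_apply]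
      · have h1 : (p ≫ i) d ∈ Set.range b := ⟨q d, by rw [hpq.w, Scheme.Hom.comp_apply]⟩
        rw [Scheme.IdealSheafData.range_subschemeι] at h1
        have h2 : (J.support : Set Z) = C' := Scheme.IdealSheafData.coe_support_vanishingIdeal _
        rw [h2] at h1
        exact h1
    have := IsLocallyArtinian.of_topologicalKrullDim_le_zero hD
    infer_instance
  -- constant rank
  have hf : IsFinite U.hom := U.prop.1
  have he : Etale U.hom := U.prop.2
  obtain ⟨n, hn⟩ : ∃ n : ℕ, ∀ x, Scheme.Hom.finrank U.hom x = n := by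
    obtain ⟨x₀⟩ : Nonempty X := inferInstance
    let u : U.left ⟶ X := U.hom
    have hu : IsFinite u := hf
    have hu' : Etale u := he
    exact ⟨u.finrank x₀, fun x => u.isLocallyConstant_finrank.apply_eq_of_preconnectedSpace x x₀⟩
  have hn' : ∀ d, Scheme.Hom.finrank ((FEt.restrict p).obj U).hom d = n := by
    intro d
    rw [Scheme.Hom.finrank_of_isPullback _ _ _ _ (isPullback p U), hn]
  let T := ofAlgebra k (ULift.{u} (Fin n) → k)
  obtain ⟨e₁⟩ := exists_iso_restrict (q ≫ b ≫ a) ((FEt.restrict p).obj U) n hn'
  let V := (FEt.restrict (b ≫ a)).obj T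
  obtain ⟨W, ⟨w⟩, -⟩ := Pi1C.UnionPush.exists_glue hpq hker U V
    (e₁ ≪≫ (restrictComp q (b ≫ a)).app T)
  exact ⟨W, ⟨w⟩⟩

/-- Every finite étale cover of a connected closed subscheme of a scheme of dimension at most one
over a separably closed field extends. -/
theorem essSurj (k : Type u) [Field k] [IsSepClosed k] (Z X : Scheme.{u})
    (a : Z ⟶ Spec (CommRingCat.of k)) [LocallyOfFiniteType a]
    (hdim : topologicalKrullDim Z ≤ 1) (i : X ⟶ Z) [IsClosedImmersion i] [ConnectedSpace X] :
    (FEt.restrict i).EssSurj := by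
  let Z₀ := Z.nilradical.subscheme
  let r : Z₀ ⟶ Z := Z.nilradical.subschemeι
  have hr : Surjective r := surjective_nilradical Z
  have hred : IsReduced Z₀ := Ega1.ReducedSub.isReduced_subscheme_radical _
  let X₀ := pullback i r
  let p : X₀ ⟶ X := pullback.fst i r
  let j : X₀ ⟶ Z₀ := pullback.snd i r
  have hpc : IsClosedImmersion p := inferInstance
  have hps : Surjective p := inferInstance
  have hr' : (FEt.restrict r).IsEquivalence := Groth.Agent.S0238.result r
  have hp' : (FEt.restrict p).IsEquivalence := Groth.Agent.S0238.result p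
  have hconn : ConnectedSpace X₀ := by
    have h : IsHomeomorph p := by
      refine (isHomeomorph_iff_isEmbedding_surjective).mpr
        ⟨p.isClosedEmbedding.isEmbedding, hps.surj⟩
    exact h.homeomorph.symm.surjective.connectedSpace h.homeomorph.symm.continuous
  have hj := essSurj_of_isReduced k Z₀ X₀ (r ≫ a)
    ((r.isClosedEmbedding.isInducing.topologicalKrullDim_le).trans hdim) j
  refine ⟨fun U => ?_⟩
  obtain ⟨T₀, ⟨t₀⟩⟩ := hj.mem_essImage ((FEt.restrict p).obj U)
  obtain ⟨T, ⟨t⟩⟩ := hr'.essSurj.mem_essImage T₀
  refine ⟨T, ⟨(Functor.FullyFaithful.ofFullyFaithful (FEt.restrict p)).preimageIso ?_⟩⟩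
  exact (restrictComp p i).symm.app T ≪≫ (restrictCongr pullback.condition).app T ≪≫
    (restrictComp j r).app T ≪≫ (FEt.restrict j).mapIso t ≪≫ t₀

end Groth.Agent.Etbc.H218.ClosedExtend
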