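import Mathlib.AlgebraicGeometry.Artinian
import Mathlib.AlgebraicGeometry.Sites.EtalePoint
import Mathlib.AlgebraicGeometry.Limits
import Mathlib.AlgebraicGeometry.Morphisms.FlatMono
import Mathlib.AlgebraicGeometry.Morphisms.FlatRank
import Mathlib.AlgebraicGeometry.Morphisms.Etale
import Mathlib.AlgebraicGeometry.Morphisms.Finite
import Mathlib.AlgebraicGeometry.Morphisms.QuasiFinite
import Mathlib.AlgebraicGeometry.PullbackCarrier
import Mathlib.RingTheory.TotallySplit
import Mathlib.FieldTheory.PurelyInseparable.Basic

/-!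
# Finite étale covers of a discrete reduced scheme with separably closed residue fields

`exists_iso_sigma`: a finite étale cover of constant rank `n` of a reduced discrete scheme, locally
of finite type over a separably closed field, is a disjoint union of `n` copies of the base.
-/

set_option autoImplicit false
universe u
open AlgebraicGeometry CategoryTheory CategoryTheory.Limits

namespace Groth.Agent.Etbc.H218.DiscreteSplit

/-- Every point of a reduced discrete scheme has an open neighbourhood which is the spectrum of a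
field. -/
theorem exists_field_chart (S : Scheme.{u}) [IsReduced S] [DiscreteTopology S] (d : S) :
    ∃ (K : Type u) (_ : Field K) (j : Spec (CommRingCat.of K) ⟶ S), IsOpenImmersion j ∧
      j default = d := by
  let U : S.Opens := ⟨{d}, isOpen_discrete _⟩
  have hred : IsReduced U.toScheme := isReduced_of_isOpenImmersion U.ι
  have hsub : Subsingleton U.toScheme := inferInstanceAs (Subsingleton ({d} : Set S))
  have hne : Nonempty U.toScheme := ⟨⟨d, rfl⟩⟩
  have hint : IsIntegral U.toScheme := (isIntegral_iff_irreducibleSpace_and_isReduced _).mpr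
    ⟨⟨inferInstance⟩, inferInstance⟩
  let hF := (isField_of_isIntegral_of_subsingleton U.toScheme).toField
  have : IsAffine U.toScheme := inferInstance
  refine ⟨Γ(U.toScheme, ⊤), hF, U.toScheme.isoSpec.inv ≫ U.ι, inferInstance, ?_⟩
  rw [Scheme.Hom.comp_apply]
  exact (U.toScheme.isoSpec.inv _).2

/-- A field chart of a scheme locally of finite type over a separably closed field is the spectrum
of a separably closed field. -/
theorem isSepClosed_chart {k : Type u} [Field k] [IsSepClosed k] {S : Scheme.{u}}
    (a : S ⟶ Spec (CommRingCat.of k)) [LocallyOfFiniteType a] {K : Type u} [Field K]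
    (j : Spec (CommRingCat.of K) ⟶ S) [IsOpenImmersion j] : IsSepClosed K := by
  have hfin : IsFinite (j ≫ a) := by
    rw [isFinite_iff_locallyOfFiniteType_of_jacobsonSpace]
    infer_instance
  obtain ⟨φ, hφ⟩ := Spec.map_surjective (j ≫ a)
  rw [← hφ, IsFinite.SpecMap_iff] at hfin
  algebraize [φ.hom]
  have h1 : Module.Finite k K := hfin
  have h2 : Algebra.IsAlgebraic k K := Algebra.IsAlgebraic.of_finite k _
  exact Algebra.IsAlgebraic.isSepClosed (F := k)

/-- The number of points of a finite étale scheme over a separably closed field is its rank. -/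
theorem card_eq_finrank {K : Type u} [Field K] [IsSepClosed K] {W : Scheme.{u}}
    (g : W ⟶ Spec (CommRingCat.of K)) [IsFinite g] [Etale g] (z : Spec (CommRingCat.of K)) :
    Nat.card W = g.finrank z := by
  have hW : IsAffine W := isAffine_of_isAffineHom g
  let C := Γ(W, ⊤)
  let φ : CommRingCat.of K ⟶ C := Spec.preimage (W.isoSpec.inv ≫ g)
  have hφ : Spec.map φ = W.isoSpec.inv ≫ g := Spec.map_preimage _
  let _ := φ.hom.toAlgebra
  have hfin : IsFinite (Spec.map φ) := by rw [hφ]; infer_instance
  have het : Etale (Spec.map φ) := by rw [hφ]; infer_instance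
  have hfin' : Module.Finite K C := by
    rw [IsFinite.SpecMap_iff] at hfin
    exact hfin
  have het' : Algebra.Etale K C := by
    rw [HasRingHomProperty.Spec_iff (P := @Etale)] at het
    exact het
  have h1 : Nat.card W = Nat.card (PrimeSpectrum C) :=
    Nat.card_congr W.isoSpec.hom.homeomorph.toEquiv
  have h2 : (Spec.map (CommRingCat.ofHom (algebraMap K C))).finrank z = g.finrank z := by
    have : Spec.map (CommRingCat.ofHom (algebraMap K C)) = W.isoSpec.inv ≫ g := hφ
    rw [this, Scheme.Hom.finrank_comp_left_of_isIso]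
  have h3 : Module.finrank K C = Nat.card (PrimeSpectrum C) := by
    rw [(Algebra.FormallyEtale.equivPiOfIsSepClosed K C).toLinearEquiv.finrank_eq]
    have : IsArtinianRing C := isArtinian_of_tower K inferInstance
    have : Fintype (PrimeSpectrum C) := Fintype.ofFinite _
    rw [Module.finrank_pi, Nat.card_eq_fintype_card]
  rw [h1, ← h3, ← h2]
  refine Eq.trans ?_ (Scheme.Hom.finrank_SpecMap_algebraMap K C z).symm
  rw [Module.rankAtStalk_eq_finrank_of_free]
  rfl

/-- The number of points of a finite étale cover over a point with a chart which is the spectrum of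
a separably closed field. -/
theorem card_fibre {S E : Scheme.{u}} (f : E ⟶ S) [IsFinite f] [Etale f] {K : Type u} [Field K]
    [IsSepClosed K] (j : Spec (CommRingCat.of K) ⟶ S) [IsOpenImmersion j] :
    Nat.card {e : E // f e = j default} = f.finrank (j default) := by
  have h1 := card_eq_finrank (pullback.snd f j) default
  rw [Scheme.Hom.finrank_pullback_snd] at h1
  rw [← h1]
  have h2 : ∀ w : ↥(pullback f j), f (pullback.fst f j w) = j default := by
    intro w
    rw [← Scheme.Hom.comp_apply, pullback.condition, Scheme.Hom.comp_apply]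
    congr 1
    exact Subsingleton.elim _ _
  refine (Nat.card_congr (Equiv.ofBijective
    (fun w : ↥(pullback f j) => (⟨pullback.fst f j w, h2 w⟩ : {e : E // f e = j default}))
    ⟨?_, ?_⟩)).symm
  · intro w w' h
    exact (pullback.fst f j).isOpenEmbedding.injective (congrArg Subtype.val h)
  · rintro ⟨e, he⟩
    obtain ⟨w, hw, -⟩ := Scheme.Pullback.exists_preimage_pullback (f := f) (g := j) e default he
    exact ⟨w, Subtype.ext hw⟩

/-- Sections of an étale morphism over a discrete reduced scheme, with prescribed values. -/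
theorem exists_section {k : Type u} [Field k] [IsSepClosed k] {S E : Scheme.{u}} [IsReduced S]
    [DiscreteTopology S] (a : S ⟶ Spec (CommRingCat.of k)) [LocallyOfFiniteType a]
    (f : E ⟶ S) [Etale f] (σ : S → E) (hσ : ∀ d, f (σ d) = d) :
    ∃ s : S ⟶ E, s ≫ f = 𝟙 S ∧ ∀ d, s d = σ d := by
  choose K hK j hj hjd using fun d : S => exists_field_chart S d
  have hsep : ∀ d, IsSepClosed (K d) := fun d => isSepClosed_chart a (j d)
  have hr : ∀ d, ((j d).opensRange : Set S) = {d} := by
    intro d
    ext x
    constructor
    · rintro ⟨y, rfl⟩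
      rw [← Subsingleton.elim (default : Spec (CommRingCat.of (K d))) y]
      exact hjd d
    · rintro rfl
      exact ⟨default, hjd _⟩
  obtain ⟨hc⟩ := nonempty_isColimit_cofanMk_of j
    (by
      rw [eq_top_iff]
      intro x _
      refine TopologicalSpace.Opens.mem_iSup.mpr ⟨x, ?_⟩
      have : x ∈ ((j x).opensRange : Set S) := by rw [hr]; rfl
      exact this)
    (by
      intro x y hxy
      change Disjoint _ _
      rw [← TopologicalSpace.Opens.coe_disjoint, hr, hr]
      exact Set.disjoint_singleton.mpr hxy)
  choose l hl hld using fun d : S => Scheme.exists_fac_of_etale_of_isSepClosed f (j d) (σ d)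
    ((hσ d).trans (hjd d).symm)
  let s : S ⟶ E := Cofan.IsColimit.desc hc l
  have hs : ∀ d, j d ≫ s = l d := fun d => Cofan.IsColimit.fac hc l d
  refine ⟨s, ?_, ?_⟩
  · refine Cofan.IsColimit.hom_ext hc _ _ fun d => ?_
    change j d ≫ s ≫ f = j d ≫ 𝟙 S
    rw [← Category.assoc, hs, hl, Category.comp_id]
  · intro d
    have h1 := congrArg (fun φ => φ default) (hs d)
    simp only [Scheme.Hom.comp_apply, hjd, hld] at h1
    exact h1

/-- A finite étale cover of constant rank of a reduced discrete scheme over a separably closed field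
is trivial. -/
theorem exists_iso_sigma {k : Type u} [Field k] [IsSepClosed k] {S E : Scheme.{u}} [IsReduced S]
    [DiscreteTopology S] (a : S ⟶ Spec (CommRingCat.of k)) [LocallyOfFiniteType a]
    (f : E ⟶ S) [IsFinite f] [Etale f] (n : ℕ) (hn : ∀ s, f.finrank s = n) :
    ∃ e : E ≅ ∐ fun _ : ULift.{u} (Fin n) => S,
      ∀ i, Sigma.ι (fun _ : ULift.{u} (Fin n) => S) i ≫ e.inv ≫ f = 𝟙 S := by
  have hcard : ∀ d : S, Nat.card {e : E // f e = d} = n := by
    intro d
    obtain ⟨K, _, j, _, rfl⟩ := exists_field_chart S d
    have := isSepClosed_chart a j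
    rw [card_fibre f j, hn]
  have hfin : ∀ d : S, Finite {e : E // f e = d} := fun d =>
    (Scheme.Hom.finite_preimage_singleton f d).to_subtype
  have hσ : ∀ d : S, Nonempty (ULift.{u} (Fin n) ≃ {e : E // f e = d}) := by
    intro d
    refine ⟨Equiv.ulift.trans (Finite.equivFinOfCardEq (hcard d)).symm⟩
  let σ : ∀ d : S, ULift.{u} (Fin n) ≃ {e : E // f e = d} := fun d => (hσ d).some
  choose s hs hsd using fun i : ULift.{u} (Fin n) =>
    exists_section a f (fun d => (σ d i).1) (fun d => (σ d i).2)
  have hop : ∀ i, IsOpenImmersion (s i) := by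
    intro i
    have h1 : Etale (s i ≫ f) := by rw [hs]; infer_instance
    have h2 : Etale (s i) := Etale.of_comp (s i) f
    have h3 : Mono (s i) := (SplitMono.mk (f := s i) f (hs i)).mono
    exact IsOpenImmersion.of_flat_of_mono _
  have hdisj : Pairwise (Function.onFun Disjoint fun i => Set.range (s i)) := by
    intro i i' hii
    refine Set.disjoint_left.mpr ?_
    rintro _ ⟨d, rfl⟩ ⟨d', hd'⟩
    have h1 : d' = d := by
      have h2 : (s i' ≫ f) d' = (s i ≫ f) d := by
        rw [Scheme.Hom.comp_apply, Scheme.Hom.comp_apply, hd']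
      rwa [hs, hs] at h2
    subst h1
    rw [hsd, hsd] at hd'
    exact hii ((σ d').injective (Subtype.ext hd'.symm))
  have hde : IsOpenImmersion (Sigma.desc s) := isOpenImmersion_sigmaDesc _ _ hdisj
  have hsurj : Surjective (Sigma.desc s) := by
    constructor
    intro e
    let i := (σ (f e)).symm ⟨e, rfl⟩
    refine ⟨Sigma.ι (fun _ : ULift.{u} (Fin n) => S) i (f e), ?_⟩
    rw [← Scheme.Hom.comp_apply, Sigma.ι_desc, hsd]
    exact congrArg Subtype.val ((σ (f e)).apply_symm_apply ⟨e, rfl⟩)
  have hiso : IsIso (Sigma.desc s) := (isIso_iff_isOpenImmersion_and_surjective _).mpr ⟨hde, hsurj⟩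
  refine ⟨(asIso (Sigma.desc s)).symm, fun i => ?_⟩
  rw [Iso.symm_inv, asIso_hom, Sigma.ι_desc_assoc, hs]

end Groth.Agent.Etbc.H218.DiscreteSplit
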